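import Groth.Agent.Lib.Fitting26.Sheaf
import Groth.Agent.Lib.Fitting.Local
import Groth.Agent.Lib.ModM1.LocFree
import Mathlib.AlgebraicGeometry.IdealSheaf.Functorial
import Mathlib.AlgebraicGeometry.Morphisms.Immersion

/-!
# Fitting ideals and the locus of constant rank
-/

universe u

open CategoryTheory Limits AlgebraicGeometry Opposite TopologicalSpace

set_option backward.isDefEq.respectTransparency false
set_option backward.isDefEq.respectTransparency.types false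
set_option linter.style.haveILetI false

noncomputable section

namespace Groth.Agent.RankStratum13

variable {X : Scheme.{u}} {M : X.Modules}

theorem exists_basis_of_freeMod (hM : Coh.IsQCoh M) {U W : X.Opens} {n : ℕ}
    (e : M.restrict U.ι ≅ FlatMod.freeMod (U : Scheme.{u}) n) (hW : IsAffineOpen W) (hWU : W ≤ U) :
    Nonempty (Module.Basis (ULift.{u} (Fin n)) Γ(X, W) Γ(M, W)) := by
  haveI := hM
  have h : Set.range hW.fromSpec ⊆ Set.range U.ι := by
    rw [IsAffineOpen.range_fromSpec, Scheme.Opens.range_ι]; exact hWU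
  let l := IsOpenImmersion.lift U.ι hW.fromSpec h
  let e' : M.restrict hW.fromSpec ≅ (tilde.functor Γ(X, W)).obj
      (ModuleCat.of Γ(X, W) (ULift.{u} (Fin n) →₀ Γ(X, W))) :=
    (M1.restrictLiftIso M U.ι hW.fromSpec h).symm ≪≫
    (Scheme.Modules.restrictFunctor l).mapIso (e ≪≫ M1.freeModFrIso _ _) ≪≫
      (M1.frRestrictIso l _).symm ≪≫ (M1.frTildeIso _).symm
  exact ⟨⟨(((tilde.isoTop _ ≪≫ moduleSpecΓFunctor.mapIso e'.symm).toLinearEquiv).trans
    (M1.affineSecEquiv M hW)).symm⟩⟩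

theorem ideals_of_freeMod (hM : Coh.IsQCoh M) {U W : X.Opens} {n : ℕ}
    (e : M.restrict U.ι ≅ FlatMod.freeMod (U : Scheme.{u}) n) (hW : IsAffineOpen W) (hWU : W ≤ U) :
    (∀ k < n, Fitt.ideal Γ(X, W) Γ(M, W) k = ⊥) ∧ ∀ k, n ≤ k → Fitt.ideal Γ(X, W) Γ(M, W) k = ⊤ := by
  obtain ⟨b⟩ := exists_basis_of_freeMod hM e hW hWU
  let b' := b.reindex Equiv.ulift
  exact ⟨fun k hk => FittingLib.ideal_eq_bot_of_basis b' (by simpa using hk),
    fun k hk => FittingLib.ideal_eq_top_of_span b' b'.span_eq hk⟩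

theorem eq_of_freeMod (hM : Coh.IsQCoh M) (hFT : CohB1.IsFT M) (r : ℕ)
    (h : FlatMod.IsFinLocFreeOfRank r M) (k : ℕ) :
    (k < r → Fitt.sheafIdeal M k = ⊥) ∧ (r ≤ k → Fitt.sheafIdeal M k = ⊤) := by
  constructor <;> intro hk <;> refine EffCartier.eq_of_forall_exists fun x => ?_ <;>
    obtain ⟨U, hxU, ⟨e⟩⟩ := h x <;>
    obtain ⟨W, hW, hxW, hWU⟩ := exists_isAffineOpen_mem_and_subset (x := x) (U := U) hxU <;>
    refine ⟨⟨W, hW⟩, hxW, ?_⟩ <;> rw [Fitting26.sheafIdeal_ideal hM hFT]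
  · rw [(ideals_of_freeMod hM e hW hWU).1 k hk]; rfl
  · rw [(ideals_of_freeMod hM e hW hWU).2 k hk]; rfl

theorem isFinLocFreeOfRank_of_ideals (hM : Coh.IsQCoh M) (hFT : CohB1.IsFT M) (r : ℕ)
    (h1 : Fitt.sheafIdeal M r = ⊤) (h0 : r = 0 ∨ Fitt.sheafIdeal M (r - 1) = ⊥) :
    FlatMod.IsFinLocFreeOfRank r M := by
  intro x
  obtain ⟨U, hU, hxU, -⟩ := exists_isAffineOpen_mem_and_subset (x := x) (U := ⊤) trivial
  haveI := hM
  haveI := M1.finite_sections hM hFT hU
  haveI := M1.isQCoh_fromSpec hM hU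
  let N := moduleSpecΓFunctor.obj (M.restrict hU.fromSpec)
  let eN : N ≃ₗ[Γ(X, U)] Γ(M, U) := M1.affineSecEquiv M hU
  haveI : Module.Finite Γ(X, U) N := Module.Finite.equiv eN.symm
  have hr1 : Fitt.ideal Γ(X, U) N r = ⊤ := by
    rw [FittingLib.ideal_congr eN, ← Fitting26.sheafIdeal_ideal hM hFT r ⟨U, hU⟩, h1]; rfl
  have hr0 : r = 0 ∨ Fitt.ideal Γ(X, U) N (r - 1) = ⊥ := h0.imp_right fun h => by
    rw [FittingLib.ideal_congr eN, ← Fitting26.sheafIdeal_ideal hM hFT _ ⟨U, hU⟩, h]; rfl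
  let p := hU.primeIdealOf ⟨x, hxU⟩
  obtain ⟨u, g, hu, hg⟩ := (FittingLib.not_le_iff_exists_smul_mem_span r p.asIdeal).1 (by
    rw [hr1]; exact fun h => p.isPrime.ne_top (top_le_iff.1 h))
  obtain ⟨n₀, x₀, hx₀⟩ := FittingLib.exists_generators (R := Γ(X, U)) (M := (N : Type u))
  have hrel : ∀ c : Fin r → Γ(X, U), ∑ i, c i • g i = 0 → ∀ i, ∃ k : ℕ, u ^ k * c i = 0 := fun c hc i =>
    ⟨n₀, by
      rw [mul_comm]
      exact FittingLib.coeff_mul_pow_eq_zero g hx₀
        (hr0.resolve_left (by have := i.2; omega)) (fun j => hg (x₀ j)) hc i⟩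
  have hmem : p ∈ Set.range (PrimeSpectrum.comap (algebraMap Γ(X, U) (Localization.Away u))) := by
    rw [PrimeSpectrum.localization_away_comap_range (S := Localization.Away u) u]
    exact hu
  have hnt : Nontrivial (Localization.Away u) := hmem.choose.nontrivial
  obtain ⟨hfree, -⟩ := FittingLib.free_of_smul_mem_span u g hg hrel hnt
  obtain ⟨I, hI, ⟨e⟩⟩ := M1.exists_fr_away N u
  let j := Spec.map (CommRingCat.ofHom (algebraMap Γ(X, U) (Localization (.powers u))))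
  haveI : IsOpenImmersion j := IsOpenImmersion.of_isLocalization u
  replace hmem : p ∈ Set.range j := hmem
  obtain ⟨z, hz⟩ := hmem
  let f : M.restrict hU.fromSpec ≅ tilde N :=
    (@asIso _ _ _ _ (M.restrict hU.fromSpec).fromTildeΓ
      (Scheme.Modules.isIso_fromTildeΓ_of_isQuasicoherent (R := Γ(X, U)) _)).symm
  obtain ⟨V, n, hV, ⟨en⟩⟩ := M1.exists_freeMod_of_openImmersion (j ≫ hU.fromSpec)
    ((M1.restrictRestrictIso M hU.fromSpec j (j ≫ hU.fromSpec) rfl).symm ≪≫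
      (Scheme.Modules.restrictFunctor j).mapIso f ≪≫
      (Scheme.Modules.restrictFunctorIsoPullback j).app (tilde N) ≪≫ e) z
  rw [Scheme.Hom.comp_apply, hz] at hV
  have hx : hU.fromSpec p = x := hU.fromSpec_primeIdealOf ⟨x, hxU⟩
  replace hV : x ∈ V := hx ▸ hV
  obtain ⟨W, hW, hxW, hWV⟩ := exists_isAffineOpen_mem_and_subset (x := x) (U := V) hV
  haveI : Nontrivial Γ(X, W) := (hW.primeIdealOf ⟨x, hxW⟩).nontrivial
  obtain ⟨hbot, htop⟩ := ideals_of_freeMod hM en hW hWV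
  have hn : n = r := by
    rcases lt_trichotomy n r with h | h | h
    · have h' := h0.resolve_left (by omega)
      have := htop (r - 1) (by omega)
      rw [← Fitting26.sheafIdeal_ideal hM hFT _ ⟨W, hW⟩, h'] at this
      exact absurd this bot_ne_top
    · exact h
    · have := hbot r h
      rw [← Fitting26.sheafIdeal_ideal hM hFT _ ⟨W, hW⟩, h1] at this
      exact absurd this top_ne_bot
  subst hn
  exact ⟨V, hV, ⟨en⟩⟩

theorem exists_immersion (hM : Coh.IsQCoh M) (hFT : CohB1.IsFT M) (r : ℕ) :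
    ∃ (Z : Scheme.{u}) (i : Z ⟶ X), IsImmersion i ∧ ∀ (T : Scheme.{u}) (f : T ⟶ X),
      (∃ g : T ⟶ Z, g ≫ i = f) ↔ FlatMod.IsFinLocFreeOfRank r ((Scheme.Modules.pullback f).obj M) := by
  let J : X.IdealSheafData := if r = 0 then ⊥ else Fitt.sheafIdeal M (r - 1)
  let K := Fitt.sheafIdeal M r
  let W : X.Opens := K.support.compl
  let Z' : J.subscheme.Opens := J.subschemeι ⁻¹ᵁ W
  refine ⟨Z', Z'.ι ≫ J.subschemeι, inferInstance, fun T f => ?_⟩
  have hG := M1.isQCoh_pullback f hM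
  have hG' := M1.isFT_pullback f hFT
  have hK : Fitt.sheafIdeal ((Scheme.Modules.pullback f).obj M) r = ⊤ ↔ ∀ t, f t ∈ W := by
    rw [← Fitting26.comap_eq f hM hFT r, ← Scheme.IdealSheafData.support_eq_bot_iff,
      Scheme.IdealSheafData.support_comap, ← SetLike.coe_set_eq, Closeds.coe_bot, Closeds.coe_preimage,
      Set.eq_empty_iff_forall_notMem]
    rfl
  have hJ : (r = 0 ∨ Fitt.sheafIdeal ((Scheme.Modules.pullback f).obj M) (r - 1) = ⊥) ↔ J ≤ f.ker := by
    rw [← Scheme.IdealSheafData.map_bot, Scheme.IdealSheafData.le_map_iff_comap_le, le_bot_iff]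
    by_cases hr : r = 0
    · simp [J, hr]
    · simp only [J, hr, if_false, false_or]
      rw [← Fitting26.comap_eq f hM hFT (r - 1)]
  constructor
  · rintro ⟨g, rfl⟩
    refine isFinLocFreeOfRank_of_ideals hG hG' r (hK.2 fun t => ?_) (hJ.2 ?_)
    · exact (g t).2
    · calc J = J.subschemeι.ker := (Scheme.IdealSheafData.ker_subschemeι _).symm
        _ ≤ _ := by rw [← Category.assoc]; exact Scheme.Hom.le_ker_comp _ _
  · intro h
    have h' := eq_of_freeMod hG hG' r h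
    have hle : J.subschemeι.ker ≤ f.ker := by
      rw [Scheme.IdealSheafData.ker_subschemeι]
      exact hJ.1 (Classical.or_iff_not_imp_left.2 fun hr => (h' (r - 1)).1 (by omega))
    let g₁ := IsClosedImmersion.lift J.subschemeι f hle
    have hg₁ : g₁ ≫ J.subschemeι = f := IsClosedImmersion.lift_fac _ _ _
    have hW : ∀ t, f t ∈ W := hK.1 ((h' r).2 le_rfl)
    refine ⟨IsOpenImmersion.lift Z'.ι g₁ ?_, ?_⟩
    · rw [Scheme.Opens.range_ι]
      rintro _ ⟨t, rfl⟩
      show J.subschemeι (g₁ t) ∈ W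
      rw [← Scheme.Hom.comp_apply, hg₁]
      exact hW t
    · rw [IsOpenImmersion.lift_fac_assoc, hg₁]

end Groth.Agent.RankStratum13
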